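import Cfsg.Agent.Lib.Helper33.TransferInj
import Cfsg.Agent.Lib.Helper33.FamilyControl

set_option autoImplicit false

namespace Cfsg.Agent.Lib.Helper33

open scoped Pointwise
open Cfsg

universe u

theorem image_conj_smul {Y X : Type*} [Group Y] [Group X] (f : Y →* X) (g : Y) (A : Set Y) :
    f '' (MulAut.conj g • A) = MulAut.conj (f g) • (f '' A) := by
  ext x
  constructor
  · rintro ⟨_, ⟨a, ha, rfl⟩, rfl⟩
    exact ⟨f a, ⟨a, ha, rfl⟩, by simp⟩
  · rintro ⟨_, ⟨a, ha, rfl⟩, rfl⟩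
    exact ⟨g * a * g⁻¹, ⟨a, ha, rfl⟩, by simp⟩

theorem StepChain.map {Y X : Type*} [Group Y] [Group X] (f : Y →* X)
    {step : Set Y → Y → Prop} {step' : Set X → X → Prop}
    (hs : ∀ B y, step B y → step' (f '' B) (f y)) {A : Set Y} {g : Y}
    (h : StepChain step A g) : StepChain step' (f '' A) (f g) := by
  induction h with
  | nil => rw [map_one]; exact StepChain.nil
  | snoc k x _ hx ih =>
    rw [map_mul]
    refine StepChain.snoc _ _ ih ?_
    rw [← image_conj_smul]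
    exact hs _ _ hx

theorem stepW_mono_left {G : Type*} [Group G] (𝓦 : Set (Subgroup G → Subgroup G))
    {H H' : Subgroup G} (hH : H ≤ H') (T : Subgroup G) (A : Set G) (x : G)
    (h : stepW 𝓦 H T A x) : stepW 𝓦 H' T A x := by
  obtain ⟨h1, h2, W, hW, hx⟩ := h
  exact ⟨h1, h2, W, hW, hH hx.1, hx.2⟩

variable {p : ℕ}

theorem stepW_map_inj {Y X : Type u} [Group Y] [Group X] [Finite Y]
    {𝓦 : Set (∀ (Q : Type u) [Group Q], Subgroup Q)} (h𝓦 : ∀ W ∈ 𝓦, IsCharPFunctor.{u} p W)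
    {ι : Y →* X} (hι : Function.Injective ι) (H T : Subgroup Y) (hT : IsPGroup p ↥T)
    (B : Set Y) (y : Y) (h : stepW (ind Y 𝓦) H T B y) :
    stepW (ind X 𝓦) (H.map ι) (T.map ι) (ι '' B) (ι y) := by
  obtain ⟨h1, h2, _, ⟨W, hW, rfl⟩, hy⟩ := h
  refine ⟨Set.image_mono h1, ?_, _, ⟨W, hW, rfl⟩, ?_⟩
  · rw [← image_conj_smul]; exact Set.image_mono h2
  · show ι y ∈ H.map ι ⊓ Subgroup.normalizer ((inducedFunctor W (T.map ι) : Subgroup X) : Set X)
    rw [inducedFunctor_map (h𝓦 W hW) ι T hT hι.injOn, ← map_inf_normalizer hι]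
    exact Subgroup.mem_map_of_mem ι hy

/-- control of strong fusion is carried along injective homomorphisms. -/
theorem FCSF.map_inj {Y X : Type u} [Group Y] [Group X] [Finite Y]
    {𝓦 : Set (∀ (Q : Type u) [Group Q], Subgroup Q)} (h𝓦 : ∀ W ∈ 𝓦, IsCharPFunctor.{u} p W)
    {ι : Y →* X} (hι : Function.Injective ι) {H T : Subgroup Y} (hT : IsPGroup p ↥T)
    (h : FCSF (ind Y 𝓦) H T) : FCSF (ind X 𝓦) (H.map ι) (T.map ι) := by
  rintro A _ ⟨h₀, hh₀, rfl⟩ hA hhA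
  have hA' : A = ι '' (ι ⁻¹' A) := by
    rw [Set.image_preimage_eq_inter_range]
    refine (Set.inter_eq_left.2 ?_).symm
    intro a ha
    obtain ⟨t, -, rfl⟩ := hA ha
    exact ⟨t, rfl⟩
  have h1 : ι ⁻¹' A ⊆ T := by
    intro a ha
    exact (Subgroup.mem_map_iff_mem hι).1 (hA ha)
  have h2 : MulAut.conj h₀ • (ι ⁻¹' A) ⊆ T := by
    rintro _ ⟨a, ha, rfl⟩
    have h3 : ι h₀ * ι a * (ι h₀)⁻¹ ∈ T.map ι := hhA (conj_mem_conj_smul ha)
    rw [← map_inv, ← map_mul, ← map_mul, Subgroup.mem_map_iff_mem hι] at h3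
    exact h3
  obtain ⟨g, hg, hg'⟩ := h _ h₀ hh₀ h1 h2
  refine ⟨ι g, ?_, ?_⟩
  · rw [hA']
    exact hg.map ι (stepW_map_inj h𝓦 hι H T hT)
  · intro a ha
    rw [hA'] at ha
    obtain ⟨a₀, ha₀, rfl⟩ := ha
    have := congrArg ι (hg' a₀ ha₀)
    simpa using this

theorem familyControlsStrongFusionIn_map_inj {Y X : Type u} [Group Y] [Group X] [Finite Y]
    {𝓦 : Set (∀ (Q : Type u) [Group Q], Subgroup Q)} (h𝓦 : ∀ W ∈ 𝓦, IsCharPFunctor.{u} p W)
    {ι : Y →* X} (hι : Function.Injective ι) (H : Subgroup Y)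
    (h : FamilyControlsStrongFusionIn p (ind Y 𝓦) H) :
    FamilyControlsStrongFusionIn p (ind X 𝓦) (H.map ι) := by
  obtain ⟨T, hT, hc⟩ := familyControlsStrongFusionIn_iff.1 h
  exact familyControlsStrongFusionIn_iff.2 ⟨T.map ι, hT.map_inj hι, hc.map_inj h𝓦 hι hT.2.1⟩

theorem familyControlsStrongFusionIn_of_subgroup {X : Type u} [Group X] [Finite X]
    {𝓦 : Set (∀ (Q : Type u) [Group Q], Subgroup Q)} (h𝓦 : ∀ W ∈ 𝓦, IsCharPFunctor.{u} p W)
    (H : Subgroup X) (h : FamilyControlsStrongFusionIn p (ind ↥H 𝓦) ⊤) :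
    FamilyControlsStrongFusionIn p (ind X 𝓦) H := by
  have := familyControlsStrongFusionIn_map_inj h𝓦 (Subgroup.subtype_injective H) ⊤ h
  rwa [← MonoidHom.range_eq_map, Subgroup.range_subtype] at this

theorem familyControlsStrongFusionIn_of_equiv {Y X : Type u} [Group Y] [Group X] [Finite Y]
    {𝓦 : Set (∀ (Q : Type u) [Group Q], Subgroup Q)} (h𝓦 : ∀ W ∈ 𝓦, IsCharPFunctor.{u} p W)
    (e : Y ≃* X) (h : FamilyControlsStrongFusionIn p (ind Y 𝓦) ⊤) :
    FamilyControlsStrongFusionIn p (ind X 𝓦) ⊤ := by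
  have := familyControlsStrongFusionIn_map_inj h𝓦 (ι := e.toMonoidHom) e.injective ⊤ h
  rwa [← MonoidHom.range_eq_map, MonoidHom.range_eq_top.2 e.surjective] at this

/-- the functors induced by `𝓦` control strong fusion in `X`. -/
def CF (p : ℕ) (𝓦 : Set (∀ (Q : Type u) [Group Q], Subgroup Q)) (X : Type u) [Group X] : Prop :=
  FamilyControlsStrongFusionIn p (ind X 𝓦) ⊤

/-- the fusion relation on `X` generated by the normalizers `N_X(W(S))`. -/
def GoodX {X : Type u} [Group X] (𝓦 : Set (∀ (Q : Type u) [Group Q], Subgroup Q))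
    (S : Subgroup X) : Set X → X → Prop :=
  GoodS (stepW (ind X 𝓦) ⊤ S)

theorem fusionRel_goodX {X : Type u} [Group X] (𝓦 : Set (∀ (Q : Type u) [Group Q], Subgroup Q))
    (S : Subgroup X) : FusionRel (GoodX 𝓦 S) := fusionRel_stepW _ _ _

variable {X : Type u} [Group X] [Finite X] [Fact p.Prime]
  {𝓦 : Set (∀ (Q : Type u) [Group Q], Subgroup Q)}

theorem CF_iff (h𝓦 : ∀ W ∈ 𝓦, IsCharPFunctor.{u} p W) (S : Sylow p X) :
    CF p 𝓦 X ↔ ∀ (A : Set X) (g : X), A ⊆ (S : Subgroup X) →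
      MulAut.conj g • A ⊆ (S : Subgroup X) → GoodX 𝓦 (S : Subgroup X) A g := by
  constructor
  · intro h A g hA hg
    exact FamilyControlsStrongFusionIn.fcsf (ind_isConjugacyFunctor h𝓦) h (relSyl_top S) A g
      (Subgroup.mem_top g) hA hg
  · intro h
    exact familyControlsStrongFusionIn_iff.2 ⟨S, relSyl_top S, fun A g _ hA hg => h A g hA hg⟩

/-- fusion inside a subgroup `H ⊇ S` in which `𝓦` controls strong fusion. -/
theorem goodX_of_sub (h𝓦 : ∀ W ∈ 𝓦, IsCharPFunctor.{u} p W) (S : Sylow p X)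
    {H : Subgroup X} (hSH : (S : Subgroup X) ≤ H) (hH : CF p 𝓦 ↥H) {A : Set X} {h : X}
    (hh : h ∈ H) (hA : A ⊆ (S : Subgroup X)) (hhA : MulAut.conj h • A ⊆ (S : Subgroup X)) :
    GoodX 𝓦 (S : Subgroup X) A h := by
  have h1 := familyControlsStrongFusionIn_of_subgroup h𝓦 H hH
  have h2 := FamilyControlsStrongFusionIn.fcsf (ind_isConjugacyFunctor h𝓦) h1
    ((relSyl_top S).mono hSH le_top)
  obtain ⟨g, hg, hg'⟩ := h2 A h hh hA hhA
  exact ⟨g, hg.mono_step (stepW_mono_left _ le_top _), hg'⟩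

end Cfsg.Agent.Lib.Helper33
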