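import Cfsg.Agent.Lib.Helper33.FusionMap
import Cfsg.Agent.Lib.Helper33.Frattini

set_option autoImplicit false

namespace Cfsg.Agent.Lib.Helper33

open scoped Pointwise
open Cfsg

universe u

variable {X : Type u} [Group X] [Finite X] {p : ℕ} [Fact p.Prime]
  {𝓦 : Set (∀ (Q : Type u) [Group Q], Subgroup Q)}

theorem closure_conj_smul_le {G : Type*} [Group G] {B : Set G} {x : G} {H : Subgroup G}
    (h : MulAut.conj x • B ⊆ H) : MulAut.conj x • Subgroup.closure B ≤ H := by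
  rw [Subgroup.smul_closure]; exact (Subgroup.closure_le _).2 h

/-- passing to the quotient by a normal `p'`-subgroup. -/
theorem CF_of_quotient_p' (h𝓦 : ∀ W ∈ 𝓦, IsCharPFunctor.{u} p W) {D : Subgroup X} [D.Normal]
    (hD : (Nat.card D).Coprime p) (h : CF p 𝓦 (X ⧸ D)) : CF p 𝓦 X := by
  obtain ⟨S⟩ : Nonempty (Sylow p X) := Sylow.nonempty
  rw [CF_iff h𝓦 S]
  let π := QuotientGroup.mk' D
  have hπ : Function.Surjective π := QuotientGroup.mk'_surjective D
  let S' : Sylow p (X ⧸ D) := S.mapSurjective hπ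
  have hS' : (S' : Subgroup (X ⧸ D)) = (S : Subgroup X).map π := rfl
  have h1 := (CF_iff h𝓦 S').1 h
  have hSD : (S : Subgroup X) ⊓ D = ⊥ := inf_eq_bot_of_isPGroup_of_coprime S.2 hD
  have hinj : Set.InjOn π (S : Subgroup X) := by
    intro a ha b hb hab
    have h2 : a⁻¹ * b ∈ D := QuotientGroup.eq.1 hab
    have h3 : a⁻¹ * b ∈ (S : Subgroup X) ⊓ D :=
      ⟨(S : Subgroup X).mul_mem ((S : Subgroup X).inv_mem ha) hb, h2⟩
    rw [hSD, Subgroup.mem_bot] at h3
    exact (inv_mul_eq_one.1 h3)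
  have lift : ∀ A : Set X, A ⊆ (S : Subgroup X) → ∀ k' : X ⧸ D,
      StepChain (stepW (ind (X ⧸ D) 𝓦) ⊤ S') (π '' A) k' →
      ∃ k : X, π k = k' ∧ StepChain (stepW (ind X 𝓦) ⊤ S) A k ∧
        MulAut.conj k • A ⊆ (S : Subgroup X) := by
    intro A hA k' hk'
    induction hk' with
    | nil => exact ⟨1, map_one π, StepChain.nil, by rw [conj_one_smul]; exact hA⟩
    | snoc k' x' _ hx ih =>
      obtain ⟨k, rfl, hk, hkA⟩ := ih
      rw [← image_conj_smul] at hx
      obtain ⟨-, hx2, _, ⟨W, hW, rfl⟩, -, hx3⟩ := hx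
      have hcf := isConjugacyFunctor_induced (G := X) (h𝓦 W hW)
      change x' ∈ Subgroup.normalizer
        ((inducedFunctor W (S' : Subgroup (X ⧸ D)) : Subgroup (X ⧸ D)) : Set (X ⧸ D)) at hx3
      rw [hS', inducedFunctor_map (h𝓦 W hW) π _ S.2 hinj,
        map_normalizer_p' (isPGroup_of_le S.2 (IsConjugacyFunctor.le hcf S.2)) hD] at hx3
      obtain ⟨x, hx, rfl⟩ := hx3
      set N := Subgroup.normalizer ((inducedFunctor W (S : Subgroup X) : Subgroup X) : Set X)
      have hSN : (S : Subgroup X) ≤ N :=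
        Subgroup.le_normalizer.trans (IsConjugacyFunctor.normalizer_le hcf S.2)
      set B := MulAut.conj k • A with hB
      have hU1 : MulAut.conj x • B ⊆ (N ⊓ ((S : Subgroup X) ⊔ D) : Subgroup X) := by
        rintro _ ⟨b, hb, rfl⟩
        refine ⟨N.mul_mem (N.mul_mem hx (hSN (hkA hb))) (N.inv_mem hx), ?_⟩
        have h2 : π (x * b * x⁻¹) ∈ (S : Subgroup X).map π := by
          apply hx2
          rw [← image_conj_smul]
          exact ⟨_, conj_mem_conj_smul hb, rfl⟩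
        have h3 : x * b * x⁻¹ ∈ ((S : Subgroup X).map π).comap π := h2
        rwa [Subgroup.comap_map_eq, QuotientGroup.ker_mk'] at h3
      have hrel : RelSyl p (S : Subgroup X) (N ⊓ ((S : Subgroup X) ⊔ D)) :=
        (relSyl_top S).mono (le_inf hSN le_sup_left) le_top
      obtain ⟨e, he, hle⟩ := hrel.exists_conj_le (closure_conj_smul_le hU1)
        (isPGroup_conj_smul (isPGroup_of_le S.2 ((Subgroup.closure_le _).2 hkA)) x)
      obtain ⟨s, hs, d, hd, rfl⟩ := Subgroup.mem_sup_of_normal_right.1 he.2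
      have hdN : d ∈ N := by
        have := N.mul_mem (N.inv_mem (hSN hs)) he.1
        simpa using this
      have hle2 : MulAut.conj (d * x) • B ⊆ (S : Subgroup X) := by
        rintro _ ⟨b, hb, rfl⟩
        have h2 : s * d * (x * b * x⁻¹) * (s * d)⁻¹ ∈ (S : Subgroup X) :=
          hle ⟨_, ⟨b, Subgroup.subset_closure hb, rfl⟩, rfl⟩
        have h3 := (S : Subgroup X).mul_mem ((S : Subgroup X).mul_mem
          ((S : Subgroup X).inv_mem hs) h2) hs
        have e : s⁻¹ * (s * d * (x * b * x⁻¹) * (s * d)⁻¹) * s = d * x * b * (d * x)⁻¹ := by group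
        rw [e] at h3
        exact h3
      have hd1 : π d = 1 := (QuotientGroup.eq_one_iff d).2 hd
      refine ⟨d * x * k, by rw [map_mul, map_mul, hd1, one_mul], ?_, ?_⟩
      · exact StepChain.snoc _ _ hk ⟨hkA, hle2, _, ⟨W, hW, rfl⟩, Subgroup.mem_top _, N.mul_mem hdN hx⟩
      · rw [← conj_smul_smul]; exact hle2
  intro A g hA hg
  obtain ⟨k', hk', hk''⟩ := h1 (π '' A) (π g) (Set.image_mono hA)
    (by rw [← image_conj_smul]; exact Set.image_mono hg)
  obtain ⟨k, rfl, hk, hkA⟩ := lift A hA k' hk'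
  refine ⟨k, hk, fun a ha => ?_⟩
  apply hinj (hkA (conj_mem_conj_smul ha)) (hg (conj_mem_conj_smul ha))
  have := hk'' (π a) ⟨a, ha, rfl⟩
  simpa using this

/-- lifting fusion from the quotient by a normal `p`-subgroup. -/
theorem exists_goodX_lift (h𝓦 : ∀ W ∈ 𝓦, IsCharPFunctor.{u} p W) (S : Sylow p X)
    {R : Subgroup X} [R.Normal] (hRS : R ≤ (S : Subgroup X)) (hquot : CF p 𝓦 (X ⧸ R))
    (hstep : ∀ W ∈ 𝓦, ∀ x : X, QuotientGroup.mk' R x ∈ Subgroup.normalizer
        ((inducedFunctor W ((S : Subgroup X).map (QuotientGroup.mk' R)) : Subgroup (X ⧸ R)) :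
          Set (X ⧸ R)) →
      ∀ B : Set X, B ⊆ (S : Subgroup X) → MulAut.conj x • B ⊆ (S : Subgroup X) →
        GoodX 𝓦 (S : Subgroup X) B x)
    (A : Set X) (hA : A ⊆ (S : Subgroup X)) (g : X) (hg : MulAut.conj g • A ⊆ (S : Subgroup X)) :
    ∃ k : X, GoodX 𝓦 (S : Subgroup X) A k ∧
      ∀ a ∈ A, QuotientGroup.mk' R (k * a * k⁻¹) = QuotientGroup.mk' R (g * a * g⁻¹) := by
  let π := QuotientGroup.mk' R
  have hπ : Function.Surjective π := QuotientGroup.mk'_surjective R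
  let S' : Sylow p (X ⧸ R) := S.mapSurjective hπ
  have hS' : (S' : Subgroup (X ⧸ R)) = (S : Subgroup X).map π := rfl
  have h1 := (CF_iff h𝓦 S').1 hquot
  have hG := fusionRel_goodX 𝓦 (S : Subgroup X)
  have hcomap : ∀ B : Set X, π '' B ⊆ (S' : Subgroup (X ⧸ R)) → B ⊆ (S : Subgroup X) := by
    intro B hB b hb
    have h3 : b ∈ ((S : Subgroup X).map π).comap π := hB ⟨b, hb, rfl⟩
    rwa [Subgroup.comap_map_eq, QuotientGroup.ker_mk', sup_eq_left.2 hRS] at h3
  have lift : ∀ k' : X ⧸ R, StepChain (stepW (ind (X ⧸ R) 𝓦) ⊤ S') (π '' A) k' →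
      ∃ k : X, π k = k' ∧ GoodX 𝓦 (S : Subgroup X) A k := by
    intro k' hk'
    induction hk' with
    | nil => exact ⟨1, map_one π, hG.one A⟩
    | snoc k' x' _ hx ih =>
      obtain ⟨k, rfl, hk⟩ := ih
      obtain ⟨x, rfl⟩ := hπ x'
      rw [← image_conj_smul] at hx
      obtain ⟨hx1, hx2, _, ⟨W, hW, rfl⟩, -, hx3⟩ := hx
      rw [← image_conj_smul] at hx2
      exact ⟨x * k, map_mul π x k, hG.trans _ _ _ hk
        (hstep W hW x hx3 _ (hcomap _ hx1) (hcomap _ hx2))⟩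
  obtain ⟨k', hk', hk''⟩ := h1 (π '' A) (π g) (Set.image_mono hA)
    (by rw [← image_conj_smul]; exact Set.image_mono hg)
  obtain ⟨k, rfl, hk⟩ := lift k' hk'
  refine ⟨k, hk, fun a ha => ?_⟩
  have := hk'' (π a) ⟨a, ha, rfl⟩
  rw [map_mul, map_mul, map_inv, map_mul, map_mul, map_inv]
  exact this

end Cfsg.Agent.Lib.Helper33
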