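import Cfsg.Agent.Lib.Helper33.AlperinReduce

set_option autoImplicit false

namespace Cfsg.Agent.Lib.Helper33

open scoped Pointwise
open Cfsg

variable {G : Type*} [Group G] {p : ℕ}

theorem center_le_inf_normalizer {S U : Subgroup G} (hU : U ≤ S) :
    S ⊓ Subgroup.centralizer (S : Set G) ≤ S ⊓ Subgroup.normalizer (U : Set G) :=
  inf_le_inf_left _ ((Subgroup.centralizer_le hU).trans (Subgroup.centralizer_le_normalizer _))

/-- abstract local-to-global principle for a set of conjugacy functors, where the local hypothesis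
is only available for a class `𝓗` of subgroups containing the centric subgroups and the conjugates
of the `W R`, `Z(S) ≤ R ≤ S`. -/
theorem local_to_global_centric [Fact p.Prime] [Finite G] (S : Sylow p G)
    {𝓦 : Set (Subgroup G → Subgroup G)} (h𝓦 : ∀ W ∈ 𝓦, IsConjugacyFunctor p W)
    {Good : Set G → G → Prop} (hG : FusionRel Good) (𝓗 : Set (Subgroup G))
    (hcent : ∀ U : Subgroup G, U ≤ (S : Subgroup G) →
      (S : Subgroup G) ⊓ Subgroup.centralizer (U : Set G) ≤ U → U ∈ 𝓗)
    (hWH : ∀ W ∈ 𝓦, ∀ R : Subgroup G, R ≤ (S : Subgroup G) →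
      (S : Subgroup G) ⊓ Subgroup.centralizer ((S : Subgroup G) : Set G) ≤ R → ∀ u : G,
      MulAut.conj u • W R ≤ (S : Subgroup G) → MulAut.conj u • W R ∈ 𝓗)
    (G0 : ∀ W ∈ 𝓦, ∀ y ∈ Subgroup.normalizer ((W (S : Subgroup G) : Subgroup G) : Set G),
      ∀ A : Set G, A ⊆ (S : Subgroup G) → MulAut.conj y • A ⊆ (S : Subgroup G) → Good A y)
    (L : ∀ T : Subgroup G, T ≤ (S : Subgroup G) → T ∈ 𝓗 → T ≠ ⊥ →
      RelSyl p ((S : Subgroup G) ⊓ Subgroup.normalizer (T : Set G)) (Subgroup.normalizer (T : Set G)) →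
      (∀ W ∈ 𝓦, ∀ y ∈ Subgroup.normalizer (T : Set G) ⊓ Subgroup.normalizer
          ((W ((S : Subgroup G) ⊓ Subgroup.normalizer (T : Set G)) : Subgroup G) : Set G),
        ∀ A : Set G, A ⊆ ((S : Subgroup G) ⊓ Subgroup.normalizer (T : Set G) : Subgroup G) →
          MulAut.conj y • A ⊆ ((S : Subgroup G) ⊓ Subgroup.normalizer (T : Set G) : Subgroup G) →
          Good A y) →
      ∀ A : Set G, A ⊆ ((S : Subgroup G) ⊓ Subgroup.normalizer (T : Set G) : Subgroup G) →
        ∀ h ∈ Subgroup.normalizer (T : Set G),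
        MulAut.conj h • A ⊆ ((S : Subgroup G) ⊓ Subgroup.normalizer (T : Set G) : Subgroup G) →
        Good A h)
    (A : Set G) (hA : A ⊆ (S : Subgroup G)) (g : G) (hg : MulAut.conj g • A ⊆ (S : Subgroup G)) :
    Good A g := by
  let Q : Subgroup G → Prop := fun R => ∀ W ∈ 𝓦,
    ∀ y ∈ Subgroup.normalizer ((W R : Subgroup G) : Set G), ∀ A : Set G, A ⊆ R →
      MulAut.conj y • A ⊆ (S : Subgroup G) → Good A y
  have P : ∀ m : ℕ, (∀ R : Subgroup G, R ≤ (S : Subgroup G) →
      (S : Subgroup G) ⊓ Subgroup.centralizer ((S : Subgroup G) : Set G) ≤ R →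
      m < Nat.card R → Q R) →
      ∀ (B : Set G) (g : G), m < B.ncard → B ⊆ (S : Subgroup G) →
        MulAut.conj g • B ⊆ (S : Subgroup G) → Good B g := by
    intro m hQ
    refine alperin_reduce S hG
      {U | (S : Subgroup G) ⊓ Subgroup.centralizer (U : Set G) ≤ U} m
      (fun U hU hUF x hx => exists_extension_of_not_centric S hU hUF hx) ?_
    intro U hU hUF hmU x hx
    have hTS₁ : U ≤ (S : Subgroup G) ⊓ Subgroup.normalizer (U : Set G) :=
      le_inf hU.1 Subgroup.le_normalizer
    have c2 := card_le_of_le hTS₁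
    by_cases hT0 : U = ⊥
    · subst hT0
      exact hG.of_subset_one (subset_one_of_subset_bot le_rfl) x
    refine L U hU.1 (hcent U hU.1 hUF) hT0 hU.2 ?_ _ hTS₁ x hx
      ((smul_subset_of_mem_normalizer hx le_rfl).trans hTS₁)
    intro W hW y hy A' hA' hyA'
    exact hQ _ inf_le_left (center_le_inf_normalizer hU.1) (by omega) W hW y hy.2 A' hA'
      (hyA'.trans inf_le_left)
  have hQ : ∀ R : Subgroup G, R ≤ (S : Subgroup G) →
      (S : Subgroup G) ⊓ Subgroup.centralizer ((S : Subgroup G) : Set G) ≤ R → Q R := by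
    intro R
    induction hn : Nat.card (S : Subgroup G) - Nat.card R using Nat.strong_induction_on
      generalizing R with
    | _ n ih =>
    intro hRS hZR W hW y hy A hA hyA
    have hRp : IsPGroup p ↥R := isPGroup_of_le S.2 hRS
    have IH : ∀ R' : Subgroup G, R' ≤ (S : Subgroup G) →
        (S : Subgroup G) ⊓ Subgroup.centralizer ((S : Subgroup G) : Set G) ≤ R' →
        Nat.card R < Nat.card R' → Q R' := by
      intro R' hR' hZ' hc
      have := card_le_of_le hR'
      exact ih _ (by omega) R' rfl hR' hZ'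
    rcases eq_or_lt_of_le hRS with rfl | hlt
    · exact G0 W hW y hy A hA hyA
    by_cases hR0 : R = ⊥
    · subst hR0
      exact hG.of_subset_one (subset_one_of_subset_bot hA) y
    set D := W R with hD
    have hDR : D ≤ R := IsConjugacyFunctor.le (h𝓦 W hW) hRp
    have hD0 : D ≠ ⊥ := IsConjugacyFunctor.ne_bot (h𝓦 W hW) hRp hR0
    have h1 : R < (S : Subgroup G) ⊓ Subgroup.normalizer (D : Set G) :=
      lt_of_lt_of_le (lt_inf_normalizer S.2 hlt)
        (inf_le_inf_left _ (IsConjugacyFunctor.normalizer_le (h𝓦 W hW) hRp))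
    have c1 := card_lt_of_lt h1
    obtain ⟨u, hu1, hu2⟩ := exists_fully_normalized S (hDR.trans hRS)
    have gN : Good (((S : Subgroup G) ⊓ Subgroup.normalizer (D : Set G) : Subgroup G) : Set G) u :=
      P (Nat.card R) IH _ u c1 inf_le_left (fun x hx => (hu1.trans inf_le_left) hx)
    have hAN : A ⊆ ((S : Subgroup G) ⊓ Subgroup.normalizer (D : Set G) : Subgroup G) :=
      hA.trans h1.le
    have hyAN : MulAut.conj y • A ⊆
        ((S : Subgroup G) ⊓ Subgroup.normalizer (D : Set G) : Subgroup G) := by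
      intro b hb
      refine ⟨hyA hb, ?_⟩
      obtain ⟨a, ha, rfl⟩ := hb
      exact Subgroup.mul_mem _ (Subgroup.mul_mem _ hy (hAN ha).2) (Subgroup.inv_mem _ hy)
    have g1 : Good A u := hG.mono _ _ _ hAN gN
    have g2 : Good (MulAut.conj y • A) u := hG.mono _ _ _ hyAN gN
    have hy' : u * y * u⁻¹ ∈ Subgroup.normalizer ((MulAut.conj u • D : Subgroup G) : Set G) := by
      rw [← smul_normalizer]
      exact conj_mem_conj_smul hy
    have hD'S : MulAut.conj u • D ≤ (S : Subgroup G) :=
      ((Subgroup.pointwise_smul_le_pointwise_smul_iff.2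
        (le_inf (hDR.trans hRS) Subgroup.le_normalizer)).trans hu1).trans inf_le_left
    have hD'0 : MulAut.conj u • D ≠ ⊥ := by
      intro h0
      apply hD0
      have := congrArg (fun K => MulAut.conj u⁻¹ • K) h0
      simpa [conj_smul_smul', conj_one_smul'] using this
    have c2 : Nat.card R < Nat.card ↥((S : Subgroup G) ⊓
        Subgroup.normalizer ((MulAut.conj u • D : Subgroup G) : Set G)) := by
      have := card_le_of_le hu1
      rw [card_conj_smul] at this
      omega
    have hsub : ∀ B : Set G, B ⊆ ((S : Subgroup G) ⊓ Subgroup.normalizer (D : Set G) : Subgroup G) →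
        MulAut.conj u • B ⊆ ((S : Subgroup G) ⊓
          Subgroup.normalizer ((MulAut.conj u • D : Subgroup G) : Set G) : Subgroup G) := by
      intro B hB
      refine (Set.smul_set_mono hB).trans ?_
      rw [← Subgroup.coe_pointwise_smul]
      exact hu1
    have g3 : Good (MulAut.conj u • A) (u * y * u⁻¹) := by
      refine L _ hD'S (hWH W hW R hRS hZR u hD'S) hD'0 hu2 ?_ _ (hsub A hAN) _ hy' ?_
      · intro W' hW' z hz A' hA' hzA'
        exact IH _ inf_le_left (center_le_inf_normalizer hD'S) c2 W' hW' z hz.2 A' hA'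
          (hzA'.trans inf_le_left)
      · rw [conj_smul_smul]
        have : u * y * u⁻¹ * u = u * y := by group
        rw [this, ← conj_smul_smul]
        exact hsub _ hyAN
    have g4 := hG.trans _ _ _ g1 g3
    have e1 : u * y * u⁻¹ * u = u * y := by group
    rw [e1] at g4
    have g5 := hG.symm _ _ g2
    rw [conj_smul_smul] at g5
    have g6 := hG.trans _ _ _ g4 g5
    have e2 : u⁻¹ * (u * y) = y := by group
    rwa [e2] at g6
  rcases Set.eq_empty_or_nonempty A with rfl | hne
  · exact hG.of_subset_one (Set.empty_subset _) g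
  · exact P 0 (fun R hR hZ _ => hQ R hR hZ) A g ((Set.ncard_pos (Set.toFinite _)).2 hne) hA hg

end Cfsg.Agent.Lib.Helper33
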