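import Cfsg.Agent.Lib.Helper33.LocalGlobalCentric
import Cfsg.Agent.Lib.Helper33.FamilyControl

set_option autoImplicit false

namespace Cfsg.Agent.Lib.Helper33

open scoped Pointwise
open Cfsg

variable {G : Type*} [Group G] {p : ℕ}

/-- steps inside the union of two subgroups `N`, `C`, staying inside `T`. -/
def stepNC (N C T : Subgroup G) (A : Set G) (x : G) : Prop :=
  A ⊆ T ∧ MulAut.conj x • A ⊆ T ∧ (x ∈ N ∨ x ∈ C)

theorem stepNC_mono (N C T : Subgroup G) (A B : Set G) (x : G)
    (hBA : B ⊆ A) (h : stepNC N C T A x) : stepNC N C T B x :=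
  ⟨hBA.trans h.1, (Set.smul_set_mono hBA).trans h.2.1, h.2.2⟩

theorem stepNC_symm (N C T : Subgroup G) (A : Set G) (x : G)
    (h : stepNC N C T A x) : stepNC N C T (MulAut.conj x • A) x⁻¹ := by
  obtain ⟨h1, h2, hx⟩ := h
  refine ⟨h2, ?_, hx.imp (Subgroup.inv_mem _) (Subgroup.inv_mem _)⟩
  rw [conj_smul_smul, inv_mul_cancel, conj_one_smul]
  exact h1

theorem fusionRel_stepNC (N C T : Subgroup G) : FusionRel (GoodS (stepNC N C T)) :=
  fusionRel_goodS (stepNC_mono N C T) (stepNC_symm N C T)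

theorem image_conj_of_mem_centralizer {X : Set G} {c : G} (hc : c ∈ Subgroup.centralizer X) :
    (fun x => c⁻¹ * x * c) '' X = X := by
  have : ∀ x ∈ X, c⁻¹ * x * c = id x := by
    intro x hx
    have := (Subgroup.mem_centralizer_iff.1 hc) x hx
    rw [mul_assoc, this]; simp
  rw [Set.image_congr this, Set.image_id]

/-- from the list form of a chain (right conjugation) to `GoodS`. -/
theorem goodS_of_raw {N C Q : Subgroup G} {X : Set G} {a c : G}
    (hc : c ∈ Subgroup.centralizer X) {n : ℕ} (b : Fin n → G) (hb : ∀ i, b i ∈ N ∨ b i ∈ C)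
    (ha : a = c * (List.ofFn b).prod)
    (hk : ∀ k : ℕ, k ≤ n → (fun x => (((List.ofFn b).take k).prod)⁻¹ * x *
      ((List.ofFn b).take k).prod) '' ((fun x => c⁻¹ * x * c) '' X) ⊆ Q) :
    GoodS (stepNC N C Q) X a⁻¹ := by
  rw [image_conj_of_mem_centralizer hc] at hk
  simp only [image_conj'] at hk
  set l := List.ofFn b with hl
  have hlen : l.length = n := by simp [hl]
  have hmem : ∀ (i : ℕ) (h : i < l.length), l[i] ∈ N ∨ l[i] ∈ C := by
    intro i h
    have : l[i] = b ⟨i, hlen ▸ h⟩ := by simp [hl]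
    rw [this]; exact hb _
  have chain : ∀ k : ℕ, k ≤ n → StepChain (stepNC N C Q) X ((l.take k).prod)⁻¹ := by
    intro k
    induction k with
    | zero => intro _; simpa using StepChain.nil
    | succ k ih =>
      intro hk'
      have hlt : k < l.length := by omega
      have e : l.take (k + 1) = l.take k ++ [l[k]] := by
        rw [List.take_succ_eq_append_getElem hlt]
      have e2 : ((l.take (k + 1)).prod)⁻¹ = (l[k])⁻¹ * ((l.take k).prod)⁻¹ := by
        rw [e, List.prod_append, List.prod_singleton, mul_inv_rev]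
      rw [e2]
      refine StepChain.snoc _ _ (ih (by omega)) ⟨hk k (by omega), ?_,
        (hmem k hlt).imp (Subgroup.inv_mem _) (Subgroup.inv_mem _)⟩
      rw [conj_smul_smul, ← e2]
      exact hk (k + 1) hk'
  have h1 := chain n le_rfl
  rw [← hlen, List.take_length] at h1
  refine ⟨_, h1, fun x hx => ?_⟩
  have h2 := (Subgroup.mem_centralizer_iff.1 hc) x hx
  rw [ha]
  calc l.prod⁻¹ * x * l.prod⁻¹⁻¹ = l.prod⁻¹ * (c⁻¹ * (c * x)) * l.prod := by group
    _ = l.prod⁻¹ * (c⁻¹ * (x * c)) * l.prod := by rw [h2]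
    _ = (c * l.prod)⁻¹ * x * (c * l.prod)⁻¹⁻¹ := by group

theorem exists_list_of_stepChain {N C Q : Subgroup G} {X : Set G} (hX : X ⊆ Q) {g : G}
    (h : StepChain (stepNC N C Q) X g) :
    ∃ l : List G, l.prod = g⁻¹ ∧ (∀ y ∈ l, y ∈ N ∨ y ∈ C) ∧
      ∀ k : ℕ, MulAut.conj ((l.take k).prod)⁻¹ • X ⊆ Q := by
  induction h with
  | nil => exact ⟨[], by simp, by simp, fun k => by simpa [conj_one_smul] using hX⟩
  | snoc g x _ hx ih =>
    obtain ⟨l, h1, h2, h3⟩ := ih
    refine ⟨l ++ [x⁻¹], by simp [h1], ?_, ?_⟩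
    · intro y hy
      rcases List.mem_append.1 hy with hy | hy
      · exact h2 y hy
      · rw [List.mem_singleton.1 hy]
        exact hx.2.2.imp (Subgroup.inv_mem _) (Subgroup.inv_mem _)
    · intro k
      rcases Nat.lt_or_ge k (l.length + 1) with hk | hk
      · rw [List.take_append_of_le_length (by omega)]
        exact h3 k
      · rw [List.take_of_length_le (by simpa using hk), List.prod_append, List.prod_singleton, h1,
          mul_inv_rev, inv_inv, inv_inv, ← conj_smul_smul]
        exact hx.2.1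

/-- from `GoodS` to the list form of a chain (right conjugation). -/
theorem raw_of_goodS {N C Q : Subgroup G} {X : Set G} (hX : X ⊆ Q) {a : G}
    (h : GoodS (stepNC N C Q) X a⁻¹) :
    ∃ c ∈ Subgroup.centralizer X, ∃ (n : ℕ) (b : Fin n → G), (∀ i, b i ∈ N ∨ b i ∈ C) ∧
      a = c * (List.ofFn b).prod ∧ ∀ k : ℕ, k ≤ n →
        (fun x => (((List.ofFn b).take k).prod)⁻¹ * x * ((List.ofFn b).take k).prod) ''
          ((fun x => c⁻¹ * x * c) '' X) ⊆ Q := by
  obtain ⟨g, hg, hg'⟩ := h
  obtain ⟨l, h1, h2, h3⟩ := exists_list_of_stepChain hX hg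
  have hc : a * g ∈ Subgroup.centralizer X := by
    rw [Subgroup.mem_centralizer_iff]
    intro x hx
    have := hg' x hx
    calc x * (a * g) = a * (a⁻¹ * x * a⁻¹⁻¹) * g := by group
      _ = a * (g * x * g⁻¹) * g := by rw [this]
      _ = a * g * x := by group
  have e : List.ofFn (fun i : Fin l.length => l[i.val]) = l := by
    apply List.ext_getElem
    · simp
    · intro i h1 h2
      simp
  refine ⟨a * g, hc, l.length, fun i => l[i.val], fun i => h2 _ (List.getElem_mem _), ?_, ?_⟩
  · rw [e, h1]; group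
  · intro k _
    rw [e, image_conj_of_mem_centralizer hc, image_conj']
    exact h3 k

end Cfsg.Agent.Lib.Helper33
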