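import Cfsg.Agent.Lib.Helper33.PairControl

set_option autoImplicit false

namespace Cfsg.Agent.Lib.Helper33

open scoped Pointwise
open Cfsg

variable {G : Type*} [Group G] {p : ℕ}

/-- `W` with `V` controls strong fusion in `L` with respect to `Q`. -/
def GCtl (W V : Subgroup G → Subgroup G) (L Q : Subgroup G) : Prop :=
  ∀ (X : Set G) (g : G), g ∈ L → X ⊆ Q → MulAut.conj g • X ⊆ Q →
    GoodS (stepNC (L ⊓ Subgroup.normalizer ((W Q : Subgroup G) : Set G))
      (L ⊓ Subgroup.centralizer ((V Q : Subgroup G) : Set G)) Q) X g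

theorem conj_mem_normalizer_functor {W : Subgroup G → Subgroup G} (hW : IsConjugacyFunctor p W)
    {Q : Subgroup G} (hQ : IsPGroup p ↥Q) {k y : G}
    (hy : y ∈ Subgroup.normalizer ((W (MulAut.conj k • Q) : Subgroup G) : Set G)) :
    k⁻¹ * y * k ∈ Subgroup.normalizer ((W Q : Subgroup G) : Set G) := by
  rw [IsConjugacyFunctor.smul hW hQ, ← smul_normalizer] at hy
  exact mem_conj_smul.1 hy

theorem conj_mem_centralizer_functor {V : Subgroup G → Subgroup G} (hV : IsConjugacyFunctor p V)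
    {Q : Subgroup G} (hQ : IsPGroup p ↥Q) {k y : G}
    (hy : y ∈ Subgroup.centralizer ((V (MulAut.conj k • Q) : Subgroup G) : Set G)) :
    k⁻¹ * y * k ∈ Subgroup.centralizer ((V Q : Subgroup G) : Set G) := by
  rw [IsConjugacyFunctor.smul hV hQ, Subgroup.coe_pointwise_smul, ← smul_centralizer] at hy
  exact mem_conj_smul.1 hy

theorem GCtl.conj {W V : Subgroup G → Subgroup G} (hW : IsConjugacyFunctor p W)
    (hV : IsConjugacyFunctor p V) {L Q : Subgroup G} (hQ : IsPGroup p ↥Q) (k : G)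
    (h : GCtl W V (MulAut.conj k • L) (MulAut.conj k • Q)) : GCtl W V L Q := by
  intro A g hg hA hgA
  obtain ⟨x, hx, hx'⟩ := h (MulAut.conj k • A) (k * g * k⁻¹) ⟨g, hg, rfl⟩
    (by rw [Subgroup.coe_pointwise_smul]; exact Set.smul_set_mono hA)
    (by
      rw [conj_smul_smul, Subgroup.coe_pointwise_smul]
      have : k * g * k⁻¹ * k = k * g := by group
      rw [this, ← conj_smul_smul]
      exact Set.smul_set_mono hgA)
  refine ⟨k⁻¹ * x * k, StepChain.conj k ?_ hx, fun a ha => ?_⟩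
  · rintro B y ⟨h1, h2, hy⟩
    rw [Subgroup.coe_pointwise_smul] at h1 h2
    refine ⟨Set.smul_set_subset_smul_set_iff.1 h1, ?_, ?_⟩
    · rw [conj_smul_smul] at h2
      have e : y * k = k * (k⁻¹ * y * k) := by group
      rw [e, ← conj_smul_smul] at h2
      exact Set.smul_set_subset_smul_set_iff.1 h2
    · rcases hy with hy | hy
      · exact Or.inl ⟨mem_conj_smul.1 hy.1, conj_mem_normalizer_functor hW hQ hy.2⟩
      · exact Or.inr ⟨mem_conj_smul.1 hy.1, conj_mem_centralizer_functor hV hQ hy.2⟩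
  · have := hx' (k * a * k⁻¹) (conj_mem_conj_smul ha)
    calc k⁻¹ * x * k * a * (k⁻¹ * x * k)⁻¹ = k⁻¹ * (x * (k * a * k⁻¹) * x⁻¹) * k := by group
      _ = k⁻¹ * (k * g * k⁻¹ * (k * a * k⁻¹) * (k * g * k⁻¹)⁻¹) * k := by rw [this]
      _ = g * a * g⁻¹ := by group

/-- the class of subgroups of `S` conjugate to a subgroup between `Z(S)` and `S`. -/
def overCenter (S : Subgroup G) : Set (Subgroup G) :=
  {T | ∃ u : G, S ⊓ Subgroup.centralizer (S : Set G) ≤ MulAut.conj u • T ∧ MulAut.conj u • T ≤ S}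

theorem mem_overCenter_of_centric {S U : Subgroup G} (hU : U ≤ S)
    (hc : S ⊓ Subgroup.centralizer (U : Set G) ≤ U) : U ∈ overCenter S :=
  ⟨1, by
    rw [conj_one_smul']
    exact (inf_le_inf_left _ (Subgroup.centralizer_le hU)).trans hc, by rwa [conj_one_smul']⟩

theorem center_le_center {S R : Subgroup G} (hR : R ≤ S)
    (hZ : S ⊓ Subgroup.centralizer (S : Set G) ≤ R) :
    S ⊓ Subgroup.centralizer (S : Set G) ≤ R ⊓ Subgroup.centralizer (R : Set G) :=
  le_inf hZ (inf_le_right.trans (Subgroup.centralizer_le hR))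

theorem mem_overCenter_functor {W : Subgroup G → Subgroup G} (hW : IsConjugacyFunctor p W)
    (hWZ : ∀ H : Subgroup G, IsPGroup p ↥H → H ⊓ Subgroup.centralizer (H : Set G) ≤ W H)
    {S R : Subgroup G} (hS : IsPGroup p ↥S) (hR : R ≤ S)
    (hZ : S ⊓ Subgroup.centralizer (S : Set G) ≤ R) (u : G) :
    MulAut.conj u • W R ∈ overCenter S := by
  have hRp := isPGroup_of_le hS hR
  refine ⟨u⁻¹, ?_, ?_⟩ <;> rw [conj_smul_smul', inv_mul_cancel, conj_one_smul']
  · exact (center_le_center hR hZ).trans (hWZ R hRp)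
  · exact (IsConjugacyFunctor.le hW hRp).trans hR

/-- given `T ∈ overCenter S` fully normalized and Sylow subgroups `Q H` of `N(H)` for
`Z(S) ≤ H ≤ S`, there is `k` carrying `(T, N_S(T))` to some `(H, Q H)`. -/
theorem exists_conj_overCenter [Fact p.Prime] [Finite G] {S T : Subgroup G}
    (hT : T ∈ overCenter S)
    (hrel : RelSyl p (S ⊓ Subgroup.normalizer (T : Set G)) (Subgroup.normalizer (T : Set G)))
    (Φ : Subgroup G → Subgroup G → Prop)
    (hloc : ∀ H : Subgroup G, S ⊓ Subgroup.centralizer (S : Set G) ≤ H → H ≤ S →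
      ∃ Q, RelSyl p Q (Subgroup.normalizer (H : Set G)) ∧ Φ H Q) :
    ∃ k : G, Φ (MulAut.conj k • T) (MulAut.conj k • (S ⊓ Subgroup.normalizer (T : Set G))) := by
  obtain ⟨u, hu1, hu2⟩ := hT
  obtain ⟨Q, hQ, hΦ⟩ := hloc _ hu1 hu2
  have h1 := hrel.conj u
  rw [smul_normalizer] at h1
  obtain ⟨x, hx, hxQ⟩ := hQ.exists_conj_eq h1
  refine ⟨x * u, ?_⟩
  rw [← conj_smul_smul', ← conj_smul_smul', hxQ, mem_normalizer_iff_smul.1 hx]
  exact hΦ

/-- local-to-global theorem for control of strong fusion by `W` with `V`. -/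
theorem GCtl_of_local [Fact p.Prime] [Finite G] (S : Sylow p G) {W V : Subgroup G → Subgroup G}
    (hW : IsConjugacyFunctor p W) (hV : IsConjugacyFunctor p V)
    (hWZ : ∀ H : Subgroup G, IsPGroup p ↥H → H ⊓ Subgroup.centralizer (H : Set G) ≤ W H)
    (hVmono : ∀ H K : Subgroup G, IsPGroup p ↥H → IsPGroup p ↥K → H ≠ ⊥ → K ≠ ⊥ →
      H ⊓ Subgroup.centralizer (H : Set G) ≤ K ⊓ Subgroup.centralizer (K : Set G) → V H ≤ V K)
    (hloc : ∀ H : Subgroup G,
      (S : Subgroup G) ⊓ Subgroup.centralizer ((S : Subgroup G) : Set G) ≤ H →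
      H ≤ (S : Subgroup G) → ∃ Q, RelSyl p Q (Subgroup.normalizer (H : Set G)) ∧
        GCtl W V (Subgroup.normalizer (H : Set G)) Q) :
    GCtl W V ⊤ S := by
  intro A g _ hA hg
  set Good := GoodS (stepNC (⊤ ⊓ Subgroup.normalizer ((W (S : Subgroup G) : Subgroup G) : Set G))
      (⊤ ⊓ Subgroup.centralizer ((V (S : Subgroup G) : Subgroup G) : Set G)) (S : Subgroup G))
    with hGood
  have hG : FusionRel Good := fusionRel_stepNC _ _ _
  refine local_to_global_centric S (𝓦 := {W}) (by rintro _ rfl; exact hW) hG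
    (overCenter (S : Subgroup G)) (fun U hU hc => mem_overCenter_of_centric hU hc) ?_ ?_ ?_
    A hA g hg
  · rintro _ rfl R hR hZ u _
    exact mem_overCenter_functor hW hWZ S.2 hR hZ u
  · rintro _ rfl y hy B hB hyB
    exact ⟨y, StepChain.single ⟨hB, hyB, Or.inl ⟨Subgroup.mem_top y, hy⟩⟩, fun _ _ => rfl⟩
  · intro T hTS hTH hT0 hrel Hy B hB h hh hhB
    set R := (S : Subgroup G) ⊓ Subgroup.normalizer (T : Set G) with hR
    have hRp : IsPGroup p ↥R := isPGroup_of_le S.2 inf_le_left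
    obtain ⟨k, hk⟩ := exists_conj_overCenter hTH hrel
      (fun H Q => GCtl W V (Subgroup.normalizer (H : Set G)) Q) hloc
    rw [← smul_normalizer] at hk
    have hctl : GCtl W V (Subgroup.normalizer (T : Set G)) R := GCtl.conj hW hV hRp k hk
    obtain ⟨x, hx, hx'⟩ := hctl B h hh hB hhB
    refine hG.congr B x h hx' (hG.of_stepChain ?_ hx)
    rintro B' y ⟨hB', hyB', hy | hy⟩
    · exact Hy W rfl y hy B' hB' hyB'
    · have hTR : T ≤ R := le_inf hTS Subgroup.le_normalizer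
      have hR0 : R ≠ ⊥ := fun h0 => hT0 (le_bot_iff.1 (h0 ▸ hTR))
      have hS0 : (S : Subgroup G) ≠ ⊥ := fun h0 => hT0 (le_bot_iff.1 (h0 ▸ hTS))
      have hVV : V (S : Subgroup G) ≤ V R := hVmono _ _ S.2 hRp hS0 hR0
        (center_le_center inf_le_left (center_le_inf_normalizer hTS))
      exact ⟨y, StepChain.single ⟨hB'.trans inf_le_left, hyB'.trans inf_le_left,
        Or.inr ⟨Subgroup.mem_top y, Subgroup.centralizer_le hVV hy.2⟩⟩, fun _ _ => rfl⟩

end Cfsg.Agent.Lib.Helper33
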