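import Cfsg.Agent.Lib.Helper33.Sections
import Cfsg.Agent.Lib.Helper51.PGroup

set_option autoImplicit false

namespace Cfsg.Agent.Lib.Helper33

open scoped Pointwise
open Cfsg

/-- a subgroup `W` of order four with a complement `N` in `W N` which induces a group of
automorphisms of order divisible by six gives a section isomorphic to the symmetric group. -/
theorem involves_S4_of_complement {X : Type*} [Group X] [Finite X] {W N : Subgroup X}
    (hW : Nat.card W = 4) (hNW : N ≤ Subgroup.normalizer (W : Set X)) (hdisj : N ⊓ W = ⊥)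
    (h6 : 6 ∣ (N ⊓ Subgroup.centralizer (W : Set X)).relIndex N) :
    Involves (Equiv.Perm (Fin 4)) X := by
  classical
  set Z := N ⊔ W with hZ
  have hNZ : N ≤ Z := le_sup_left
  have hWZ : W ≤ Z := le_sup_right
  have hcard : Nat.card Z = Nat.card N * 4 := by
    have := Cfsg.Agent.Lib.Helper51.card_sup_mul_card_inf_of_le_normalizer N W hNW
    rw [hdisj, Subgroup.card_bot, mul_one, hW] at this
    exact this
  have hrel : N.relIndex Z = 4 := by
    have h1 := Subgroup.relIndex_mul_relIndex ⊥ N Z bot_le hNZ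
    rw [Subgroup.relIndex_bot_left, Subgroup.relIndex_bot_left, hcard] at h1
    have hpos : 0 < Nat.card N := Nat.card_pos
    exact Nat.eq_of_mul_eq_mul_left hpos h1
  have hα : Nat.card (↥Z ⧸ N.subgroupOf Z) = 4 := by
    rw [← Subgroup.index_eq_card]; exact hrel
  let f : ↥Z →* Equiv.Perm (↥Z ⧸ N.subgroupOf Z) := MulAction.toPermHom ↥Z (↥Z ⧸ N.subgroupOf Z)
  have hker : f.ker ≤ (N ⊓ Subgroup.centralizer (W : Set X)).subgroupOf Z := by
    intro k hk
    have hk' : ∀ z : ↥Z, k • (z : ↥Z ⧸ N.subgroupOf Z) = (z : ↥Z ⧸ N.subgroupOf Z) := by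
      intro z
      have := congrArg (fun σ : Equiv.Perm (↥Z ⧸ N.subgroupOf Z) => σ z) (MonoidHom.mem_ker.1 hk)
      exact this
    have hmem : ∀ z : ↥Z, (z : X)⁻¹ * (k : X) * (z : X) ∈ N := by
      intro z
      have h1 : ((k * z : ↥Z) : ↥Z ⧸ N.subgroupOf Z) = (z : ↥Z ⧸ N.subgroupOf Z) := hk' z
      have h2 := QuotientGroup.eq.1 h1.symm
      rw [Subgroup.mem_subgroupOf] at h2
      simpa [mul_assoc] using h2
    have hkN : (k : X) ∈ N := by simpa using hmem 1
    rw [Subgroup.mem_subgroupOf]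
    refine ⟨hkN, ?_⟩
    apply Subgroup.mem_centralizer_iff.2
    intro w hw
    have h1 : w⁻¹ * (k : X) * w * (k : X)⁻¹ ∈ N := N.mul_mem (hmem ⟨w, hWZ hw⟩) (N.inv_mem hkN)
    have h2 : w⁻¹ * ((k : X) * w * (k : X)⁻¹) ∈ W :=
      W.mul_mem (W.inv_mem hw) ((Subgroup.mem_normalizer_iff.1 (hNW hkN) w).1 hw)
    have h3 : w⁻¹ * (k : X) * w * (k : X)⁻¹ ∈ N ⊓ W := ⟨h1, by
      have e : w⁻¹ * (k : X) * w * (k : X)⁻¹ = w⁻¹ * ((k : X) * w * (k : X)⁻¹) := by group
      rw [e]; exact h2⟩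
    rw [hdisj, Subgroup.mem_bot] at h3
    calc w * (k : X) = w * (w⁻¹ * (k : X) * w * (k : X)⁻¹) * (k : X) := by rw [h3, mul_one]
      _ = (k : X) * w := by group
  have h24 : 24 ∣ Nat.card f.range := by
    rw [← Subgroup.index_ker]
    refine dvd_trans ?_ (Subgroup.index_dvd_of_le hker)
    have h2 := Subgroup.relIndex_mul_relIndex (N ⊓ Subgroup.centralizer (W : Set X)) N Z
      inf_le_left hNZ
    show 24 ∣ (N ⊓ Subgroup.centralizer (W : Set X)).relIndex Z
    rw [← h2, hrel]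
    exact mul_dvd_mul h6 (dvd_refl 4)
  have hperm : Nat.card (Equiv.Perm (↥Z ⧸ N.subgroupOf Z)) = 24 := by
    rw [Nat.card_perm, hα]; rfl
  have htop : f.range = ⊤ := by
    apply Subgroup.eq_top_of_le_card
    rw [hperm]
    exact Nat.le_of_dvd Nat.card_pos h24
  have hsurj : Function.Surjective f := MonoidHom.range_eq_top.1 htop
  let e : Equiv.Perm (↥Z ⧸ N.subgroupOf Z) ≃* Equiv.Perm (Fin 4) :=
    Equiv.permCongrHom (Finite.equivFinOfCardEq hα)
  exact involves_of_surjective Z (e.toMonoidHom.comp f) (e.surjective.comp hsurj)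

end Cfsg.Agent.Lib.Helper33
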