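import Cfsg.Agent.Lib.Helper33.S4Complement
import Cfsg.Agent.Lib.Helper33.Frattini
import Cfsg.Agent.Lib.Helper9.KleinFour
import Cfsg.Agent.Lib.Helper4.KleinSylow

set_option autoImplicit false

namespace Cfsg.Agent.Lib.Helper33

open scoped Pointwise
open Cfsg

theorem dvd_relIndex_of_pow {X : Type*} [Group X] [Finite X] {R N : Subgroup X} (hRN : R ≤ N)
    (hn : N ≤ Subgroup.normalizer (R : Set X)) {n : X} (hnN : n ∈ N) {q : ℕ}
    (h : ∀ j : ℕ, n ^ j ∈ R → q ∣ j) : q ∣ R.relIndex N := by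
  have : (R.subgroupOf N).Normal := (Subgroup.normal_subgroupOf_iff_le_normalizer hRN).2 hn
  have h1 : orderOf ((⟨n, hnN⟩ : ↥N) : ↥N ⧸ R.subgroupOf N) ∣ Nat.card (↥N ⧸ R.subgroupOf N) :=
    orderOf_dvd_natCard _
  rw [← Subgroup.index_eq_card] at h1
  refine dvd_trans (h _ ?_) h1
  have h2 := pow_orderOf_eq_one ((⟨n, hnN⟩ : ↥N) : ↥N ⧸ R.subgroupOf N)
  rw [← QuotientGroup.mk_pow, QuotientGroup.eq_one_iff, Subgroup.mem_subgroupOf] at h2
  simpa using h2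

/-- two elements inducing the two generating transvections on a four-group produce a section
isomorphic to the symmetric group of degree four. -/
theorem involves_S4_of_pattern {X : Type*} [Group X] [Finite X] {c₁ c₂ a b : X}
    (h1 : c₁ * c₁ = 1) (h2 : c₂ * c₂ = 1) (hc : c₁ * c₂ = c₂ * c₁) (hne1 : c₁ ≠ 1) (hne2 : c₂ ≠ 1)
    (hne : c₁ ≠ c₂)
    (ha1 : a * c₁ * a⁻¹ = c₁) (ha2 : a * c₂ * a⁻¹ = c₁ * c₂)
    (hb1 : b * c₁ * b⁻¹ = c₁ * c₂) (hb2 : b * c₂ * b⁻¹ = c₂) :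
    Involves (Equiv.Perm (Fin 4)) X := by
  classical
  have : Fact (Nat.Prime 3) := ⟨Nat.prime_three⟩
  set W := Subgroup.closure ({c₁, c₂} : Set X) with hW
  have hK : IsKleinFour W := Cfsg.Agent.Lib.Helper9.isKleinFour_closure_pair hne1 hne2 hne
    (by rw [pow_two]; exact h1) (by rw [pow_two]; exact h2) hc
  have hc₁W : c₁ ∈ W := Subgroup.subset_closure (by simp)
  have hc₂W : c₂ ∈ W := Subgroup.subset_closure (by simp)
  have hall : ∀ x y : X, x ∈ W → y ∈ W → x ≠ 1 → y ≠ 1 → x ≠ y → ∀ w ∈ W,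
      w = 1 ∨ w = x ∨ w = y ∨ w = x * y := by
    intro x y hx hy hx1 hy1 hxy w hw
    by_cases e1 : w = 1
    · exact Or.inl e1
    by_cases e2 : w = x
    · exact Or.inr (Or.inl e2)
    by_cases e3 : w = y
    · exact Or.inr (Or.inr (Or.inl e3))
    · exact Or.inr (Or.inr (Or.inr
        (Cfsg.Agent.Lib.Helper4.klein_third hK hx hy hw hx1 hy1 hxy e1 e2 e3)))
  have hsq : ∀ w ∈ W, w * w = 1 := by
    intro w hw
    have := Cfsg.Agent.Lib.Helper9.IsKleinFour.sq_eq_one hK hw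
    rwa [pow_two] at this
  set Y := Subgroup.normalizer (W : Set X) with hY
  set C := Subgroup.centralizer (W : Set X) with hC
  have hmemY : ∀ g : X, g * c₁ * g⁻¹ ∈ W → g * c₂ * g⁻¹ ∈ W → g ∈ Y := by
    intro g hg1 hg2
    rw [hY, mem_normalizer_iff_smul]
    apply conj_smul_eq_of_le
    nth_rewrite 1 [hW]
    rw [Subgroup.smul_closure, Subgroup.closure_le]
    rintro _ ⟨z, hz, rfl⟩
    rcases hz with rfl | rfl
    · exact hg1
    · exact hg2
  have hmemC : ∀ g : X, g * c₁ * g⁻¹ = c₁ → g * c₂ * g⁻¹ = c₂ → g ∈ C := by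
    intro g hg1 hg2
    rw [hC, Subgroup.mem_centralizer_iff]
    have hcm : ∀ z : X, g * z * g⁻¹ = z → z * g = g * z := by
      intro z hz
      calc z * g = (g * z * g⁻¹) * g := by rw [hz]
        _ = g * z := by group
    intro w hw
    rcases hall c₁ c₂ hc₁W hc₂W hne1 hne2 hne w hw with rfl | rfl | rfl | rfl
    · simp
    · exact hcm _ hg1
    · exact hcm _ hg2
    · apply hcm
      calc g * (c₁ * c₂) * g⁻¹ = (g * c₁ * g⁻¹) * (g * c₂ * g⁻¹) := by group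
        _ = c₁ * c₂ := by rw [hg1, hg2]
  have haY : a ∈ Y := hmemY a (by rw [ha1]; exact hc₁W) (by rw [ha2]; exact W.mul_mem hc₁W hc₂W)
  have hbY : b ∈ Y := hmemY b (by rw [hb1]; exact W.mul_mem hc₁W hc₂W) (by rw [hb2]; exact hc₂W)
  have := Fintype.ofFinite ↥W
  let ε : ↥Y →* ℤˣ := Equiv.Perm.sign.comp ((MulAut.toPerm ↥W).comp W.normalizerMonoidHom)
  have hεC : ∀ (g : X) (hg : g ∈ Y), g ∈ C → ε ⟨g, hg⟩ = 1 := by
    intro g hg hgC
    have h3 : (⟨g, hg⟩ : ↥Y) ∈ W.normalizerMonoidHom.ker := by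
      rw [Subgroup.normalizerMonoidHom_ker]
      exact hgC
    show Equiv.Perm.sign ((MulAut.toPerm ↥W) (W.normalizerMonoidHom ⟨g, hg⟩)) = 1
    rw [MonoidHom.mem_ker.1 h3, map_one, map_one]
  have hsign : ∀ (g : X) (hg : g ∈ Y) (x y : X), x ∈ W → y ∈ W → x ≠ 1 → y ≠ 1 → x ≠ y →
      g * x * g⁻¹ = x → g * y * g⁻¹ = x * y → ε ⟨g, hg⟩ = -1 := by
    intro g hg x y hx hy hx1 hy1 hxy hgx hgy
    have hxyW : x * y ∈ W := W.mul_mem hx hy
    have hperm : (MulAut.toPerm ↥W) (W.normalizerMonoidHom ⟨g, hg⟩) =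
        Equiv.swap (⟨y, hy⟩ : ↥W) ⟨x * y, hxyW⟩ := by
      ext ⟨w, hw⟩
      have hL : (((MulAut.toPerm ↥W) (W.normalizerMonoidHom ⟨g, hg⟩)) ⟨w, hw⟩ : X) =
          g * w * g⁻¹ := rfl
      rw [hL]
      rcases hall x y hx hy hx1 hy1 hxy w hw with rfl | rfl | rfl | rfl
      · rw [Equiv.swap_apply_of_ne_of_ne]
        · simp
        · intro h; exact hy1 (congrArg Subtype.val h).symm
        · intro h
          have h3 : (1 : X) = x * y := congrArg Subtype.val h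
          apply hxy
          calc x = x * (y * y) := by rw [hsq y hy, mul_one]
            _ = (x * y) * y := by group
            _ = y := by rw [← h3, one_mul]
      · rw [Equiv.swap_apply_of_ne_of_ne]
        · exact hgx
        · intro h; exact hxy (congrArg Subtype.val h)
        · intro h
          have h3 : w = w * y := congrArg Subtype.val h
          exact hy1 (left_eq_mul.1 h3)
      · rw [Equiv.swap_apply_left]
        exact hgy
      · rw [Equiv.swap_apply_right]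
        show g * (x * y) * g⁻¹ = y
        calc g * (x * y) * g⁻¹ = (g * x * g⁻¹) * (g * y * g⁻¹) := by group
          _ = (x * x) * y := by rw [hgx, hgy]; group
          _ = y := by rw [hsq x hx, one_mul]
    show Equiv.Perm.sign ((MulAut.toPerm ↥W) (W.normalizerMonoidHom ⟨g, hg⟩)) = -1
    rw [hperm]
    apply Equiv.Perm.sign_swap
    intro h
    have h3 : y = x * y := congrArg Subtype.val h
    exact hx1 (right_eq_mul.1 h3)
  have hεa : ε ⟨a, haY⟩ = -1 := hsign a haY c₁ c₂ hc₁W hc₂W hne1 hne2 hne ha1 ha2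
  have hεb : ε ⟨b, hbY⟩ = -1 :=
    hsign b hbY c₂ c₁ hc₂W hc₁W hne2 hne1 hne.symm hb2 (by rw [hb1, hc])
  -- the element of order three
  set u := a * b with hu
  have huY : u ∈ Y := Y.mul_mem haY hbY
  have hεu : ε ⟨u, huY⟩ = 1 := by
    have e : (⟨u, huY⟩ : ↥Y) = ⟨a, haY⟩ * ⟨b, hbY⟩ := rfl
    rw [e, map_mul, hεa, hεb]; simp
  have hu1 : u * c₁ * u⁻¹ = c₂ := by
    calc u * c₁ * u⁻¹ = a * (b * c₁ * b⁻¹) * a⁻¹ := by rw [hu]; group
      _ = (a * c₁ * a⁻¹) * (a * c₂ * a⁻¹) := by rw [hb1]; group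
      _ = (c₁ * c₁) * c₂ := by rw [ha1, ha2]; group
      _ = c₂ := by rw [h1, one_mul]
  have hu2 : u * c₂ * u⁻¹ = c₁ * c₂ := by
    calc u * c₂ * u⁻¹ = a * (b * c₂ * b⁻¹) * a⁻¹ := by rw [hu]; group
      _ = c₁ * c₂ := by rw [hb2, ha2]
  have hu3 : u * (c₁ * c₂) * u⁻¹ = c₁ := by
    calc u * (c₁ * c₂) * u⁻¹ = (u * c₁ * u⁻¹) * (u * c₂ * u⁻¹) := by group
      _ = c₂ * (c₂ * c₁) := by rw [hu1, hu2, hc]
      _ = (c₂ * c₂) * c₁ := by group
      _ = c₁ := by rw [h2, one_mul]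
  have hu3C : u ^ 3 ∈ C := by
    apply hmemC
    · calc u ^ 3 * c₁ * (u ^ 3)⁻¹ = u * (u * (u * c₁ * u⁻¹) * u⁻¹) * u⁻¹ := by
            simp only [pow_succ, pow_zero, one_mul, mul_inv_rev, mul_assoc]
        _ = c₁ := by rw [hu1, hu2, hu3]
    · calc u ^ 3 * c₂ * (u ^ 3)⁻¹ = u * (u * (u * c₂ * u⁻¹) * u⁻¹) * u⁻¹ := by
            simp only [pow_succ, pow_zero, one_mul, mul_inv_rev, mul_assoc]
        _ = c₂ := by rw [hu2, hu3, hu1]
  have hnofix : ∀ w ∈ W, Commute u w → w = 1 := by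
    intro w hw hcom
    have hcw : u * w * u⁻¹ = w := by rw [hcom.eq]; group
    rcases hall c₁ c₂ hc₁W hc₂W hne1 hne2 hne w hw with rfl | rfl | rfl | rfl
    · rfl
    · exact absurd (hu1.symm.trans hcw).symm hne
    · rw [hu2] at hcw
      exact absurd (mul_eq_right.1 hcw) hne1
    · rw [hu3] at hcw
      exact absurd (left_eq_mul.1 hcw) hne2
  obtain ⟨e, m, hm, hem⟩ := Nat.exists_eq_pow_mul_and_not_dvd (orderOf_pos u).ne' 3 (by norm_num)
  set t := u ^ m with ht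
  have ht3 : t ^ 3 ^ e = 1 := by
    rw [ht, ← pow_mul, mul_comm, ← hem, pow_orderOf_eq_one]
  have hcop : IsCoprime (m : ℤ) 3 := by
    have : Nat.Coprime m 3 := ((Nat.Prime.coprime_iff_not_dvd Nat.prime_three).2 hm).symm
    exact_mod_cast Nat.isCoprime_iff_coprime.2 this
  obtain ⟨x, y, hxy⟩ := hcop
  have hut : u = t ^ x * (u ^ 3) ^ y := by
    have e1 : t ^ x = u ^ (x * m) := by
      rw [ht, mul_comm x, zpow_mul, zpow_natCast]
    have e2 : (u ^ 3) ^ y = u ^ (y * 3) := by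
      rw [mul_comm y, zpow_mul]; norm_cast
    rw [e1, e2, ← zpow_add, hxy, zpow_one]
  have htfix : ∀ w ∈ W, Commute t w → w = 1 := by
    intro w hw hcom
    apply hnofix w hw
    rw [hut]
    apply Commute.mul_left (hcom.zpow_left x)
    apply Commute.zpow_left
    exact ((Subgroup.mem_centralizer_iff.1 hu3C) w hw).symm
  have htY : t ∈ Y := Y.pow_mem huY m
  have hεt : ε ⟨t, htY⟩ = 1 := by
    have e : (⟨t, htY⟩ : ↥Y) = ⟨u, huY⟩ ^ m := rfl
    rw [e, map_pow, hεu, one_pow]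
  have htC : t ∉ C := by
    intro h
    exact hne1 (htfix c₁ hc₁W ((Subgroup.mem_centralizer_iff.1 h) c₁ hc₁W).symm)
  -- the Frattini argument
  set K := ε.ker.map Y.subtype with hKdef
  have hKY : K ≤ Y := Subgroup.map_subtype_le _
  have hmemK : ∀ (g : X) (hg : g ∈ Y), g ∈ K ↔ ε ⟨g, hg⟩ = 1 := by
    intro g hg
    constructor
    · rintro ⟨k, hk, hkg⟩
      have : k = ⟨g, hg⟩ := Subtype.ext hkg
      rw [← this]; exact hk
    · intro h
      exact ⟨⟨g, hg⟩, h, rfl⟩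
  have htK : t ∈ K := (hmemK t htY).2 hεt
  have htp : IsPGroup 3 ↥(Subgroup.zpowers t) := by
    rintro ⟨z, hz⟩
    obtain ⟨j, rfl⟩ := Subgroup.mem_zpowers_iff.1 hz
    refine ⟨e, Subtype.ext ?_⟩
    show (t ^ j) ^ 3 ^ e = 1
    rw [← zpow_natCast, ← zpow_mul, mul_comm, zpow_mul, zpow_natCast, ht3, one_zpow]
  obtain ⟨Q, hQ, htQ⟩ := exists_relSyl_ge (p := 3) (Subgroup.zpowers_le.2 htK) htp
  have htQ' : t ∈ Q := htQ (Subgroup.mem_zpowers t)
  have haK : MulAut.conj a • K = K := by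
    apply conj_smul_eq_of_le
    rintro _ ⟨k, hk, rfl⟩
    have hkY : k ∈ Y := hKY hk
    have h3 : a * k * a⁻¹ ∈ Y := Y.mul_mem (Y.mul_mem haY hkY) (Y.inv_mem haY)
    show a * k * a⁻¹ ∈ K
    rw [hmemK _ h3]
    have e : (⟨a * k * a⁻¹, h3⟩ : ↥Y) = ⟨a, haY⟩ * ⟨k, hkY⟩ * ⟨a, haY⟩⁻¹ := rfl
    rw [e, map_mul, map_mul, map_inv, (hmemK k hkY).1 hk, mul_one, mul_inv_cancel]
  obtain ⟨k, hk, n, hn, hakn⟩ := frattini hQ a haK
  have hkY : k ∈ Y := hKY hk
  have hnY : n ∈ Y := by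
    have : n = k⁻¹ * a := by rw [hakn]; group
    rw [this]; exact Y.mul_mem (Y.inv_mem hkY) haY
  have hεn : ε ⟨n, hnY⟩ = -1 := by
    have e : (⟨a, haY⟩ : ↥Y) = ⟨k, hkY⟩ * ⟨n, hnY⟩ := Subtype.ext hakn
    rw [e, map_mul, (hmemK k hkY).1 hk, one_mul] at hεa
    exact hεa
  set N := Y ⊓ Subgroup.normalizer (Q : Set X) with hN
  have hnN : n ∈ N := ⟨hnY, hn⟩
  have htN : t ∈ N := ⟨htY, Subgroup.le_normalizer htQ'⟩
  have hQW : Q ⊓ W = ⊥ := by
    apply inf_eq_bot_of_isPGroup_of_coprime hQ.2.1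
    rw [hK.card_four]; norm_num
  have hdisj : N ⊓ W = ⊥ := by
    rw [eq_bot_iff]
    rintro w ⟨hwN, hwW⟩
    rw [Subgroup.mem_bot]
    apply htfix w hwW
    have h3 : w * t * w⁻¹ * t⁻¹ ∈ Q :=
      Q.mul_mem ((Subgroup.mem_normalizer_iff.1 hwN.2 t).1 htQ') (Q.inv_mem htQ')
    have h4 : w * (t * w⁻¹ * t⁻¹) ∈ W :=
      W.mul_mem hwW ((Subgroup.mem_normalizer_iff.1 htY w⁻¹).1 (W.inv_mem hwW))
    have h5 : w * t * w⁻¹ * t⁻¹ ∈ Q ⊓ W := ⟨h3, by
      have e : w * t * w⁻¹ * t⁻¹ = w * (t * w⁻¹ * t⁻¹) := by group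
      rw [e]; exact h4⟩
    rw [hQW, Subgroup.mem_bot] at h5
    show t * w = w * t
    calc t * w = (w * t * w⁻¹ * t⁻¹)⁻¹ * (w * t) := by group
      _ = w * t := by rw [h5, inv_one, one_mul]
  have hNnorm : N ≤ Subgroup.normalizer ((N ⊓ C : Subgroup X) : Set X) := by
    intro g hg
    rw [mem_normalizer_iff_smul, Subgroup.smul_inf, Subgroup.conj_smul_eq_self_of_mem hg, hC,
      smul_centralizer, ← Subgroup.coe_pointwise_smul, mem_normalizer_iff_smul.1 hg.1]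
  have h2dvd : 2 ∣ (N ⊓ C).relIndex N := by
    apply dvd_relIndex_of_pow inf_le_left hNnorm hnN
    intro j hj
    have h3 := hεC (n ^ j) (Y.pow_mem hnY j) hj.2
    have e : (⟨n ^ j, Y.pow_mem hnY j⟩ : ↥Y) = ⟨n, hnY⟩ ^ j := rfl
    rw [e, map_pow, hεn] at h3
    exact ((neg_one_pow_eq_one_iff_even (by decide)).1 h3).two_dvd
  have h3dvd : 3 ∣ (N ⊓ C).relIndex N := by
    apply dvd_relIndex_of_pow inf_le_left hNnorm htN
    intro j hj
    by_contra h3j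
    apply htC
    have hcop2 : IsCoprime (j : ℤ) ((3 ^ e : ℕ) : ℤ) := by
      have : Nat.Coprime j (3 ^ e) :=
        Nat.Coprime.pow_right e ((Nat.Prime.coprime_iff_not_dvd Nat.prime_three).2 h3j).symm
      exact Nat.isCoprime_iff_coprime.2 this
    obtain ⟨x', y', hxy'⟩ := hcop2
    have e1 : t = (t ^ j) ^ x' := by
      have e2 : (t ^ j) ^ x' = t ^ (x' * j) := by
        rw [mul_comm x', zpow_mul, zpow_natCast]
      have e3 : t ^ (y' * ((3 ^ e : ℕ) : ℤ)) = 1 := by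
        rw [mul_comm y', zpow_mul, zpow_natCast, ht3, one_zpow]
      rw [e2]
      calc t = t ^ (x' * (j : ℤ) + y' * ((3 ^ e : ℕ) : ℤ)) := by rw [hxy', zpow_one]
        _ = t ^ (x' * (j : ℤ)) := by rw [zpow_add, e3, mul_one]
    rw [e1]
    exact C.zpow_mem hj.2 x'
  exact involves_S4_of_complement hK.card_four inf_le_left hdisj
    (Nat.Coprime.mul_dvd_of_dvd_of_dvd (by norm_num) h2dvd h3dvd)

end Cfsg.Agent.Lib.Helper33
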