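import Cfsg.Agent.Lib.Helper3.Perm
import Cfsg.Agent.Lib.Helper15.Clifford2

/-!
# Piece X of helper39's S2332 farm: existence of the irreducible representation of degree
`(q^n - q)/(q - 1)` of `SL_n(q)` (helper33)
-/

set_option autoImplicit false

namespace Cfsg.Agent.Lib.Helper33

open Cfsg Cfsg.Agent.Lib Cfsg.Agent.Lib.Helper15 MulAction
open scoped LinearAlgebra.Projectivization

theorem x_irr_of_two_trans {G : Type*} [Group G] [Fintype G] (X : Type*) [MulAction G X] [Finite X]
    [Nonempty X] [Nonempty (Fin 2 ↪ X)]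
    (h1 : IsPretransitive G X) (h2 : IsPretransitive G (Fin 2 ↪ X)) :
    IsIrrCharacter G ((fun g => (Nat.card (fixedBy X g) : ℂ)) - fun _ => (1 : ℂ)) := by
  have hπ := Helper3.isCharacter_card_fixedBy (G := G) X
  have h1' := Helper3.classInner_card_fixedBy_one (G := G) X
  have h2' := Helper3.classInner_card_fixedBy_self (G := G) X
  rw [(Helper3.card_orbitRel_quotient_eq_one_iff X).2 h1] at h1' h2'
  rw [(Helper3.card_orbitRel_quotient_eq_one_iff (Fin 2 ↪ X)).2 h2] at h2'
  have hone : IsIrrCharacter G (fun _ => (1 : ℂ)) := Helper3.isIrrCharacter_one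
  have h1'' : classInner (fun _ : G => (1 : ℂ)) (fun g : G => (Nat.card (fixedBy X g) : ℂ)) = 1 := by
    rw [inner_comm_of_char (irr_char hone) hπ, h1']
    simp
  rw [isIrr_iff]
  refine ⟨char_sub_irr hπ hone (by rw [h1']; simp), ?_⟩
  rw [Helper3.classInner_sub_left, Helper3.classInner_sub_right, Helper3.classInner_sub_right, h2',
    h1', h1'', irr_inner_self hone]
  norm_num

theorem exists_rep {F : Type*} [Field F] [Fintype F] [DecidableEq F] (n : ℕ) (hn : 3 ≤ n) :
    ∃ ρ : Representation ℂ (Matrix.SpecialLinearGroup (Fin n) F)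
      (Fin ((Fintype.card F ^ n - Fintype.card F) / (Fintype.card F - 1)) → ℂ),
      ρ.IsIrreducible := by
  classical
  have hq : 1 < Fintype.card F := Fintype.one_lt_card
  have hfin : Finite (ℙ F (Fin n → F)) := inferInstance
  have h2 : IsPretransitive (Matrix.SpecialLinearGroup (Fin n) F) (Fin 2 ↪ ℙ F (Fin n → F)) :=
    (inferInstance : IsMultiplyPretransitive (Matrix.SpecialLinearGroup (Fin n) F)
      (ℙ F (Fin n → F)) 2)
  have hcard := Projectivization.card' F (Fin n → F)
  rw [Nat.card_eq_fintype_card (α := Fin n → F), Nat.card_eq_fintype_card (α := F),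
    Fintype.card_fun, Fintype.card_fin] at hcard
  have h1 : IsPretransitive (Matrix.SpecialLinearGroup (Fin n) F) (ℙ F (Fin n → F)) :=
    isPretransitive_of_is_two_pretransitive
  obtain ⟨q, hqdef⟩ : ∃ q, q = Fintype.card F := ⟨_, rfl⟩
  obtain ⟨N, hN⟩ : ∃ N, N = Nat.card (ℙ F (Fin n → F)) := ⟨_, rfl⟩
  rw [← hqdef] at hq hcard ⊢
  rw [← hN] at hcard
  have hqn : q ^ 2 ≤ q ^ n := Nat.pow_le_pow_right (by omega) (by omega)
  have hN2 : 2 ≤ N := by
    by_contra hlt
    have hN1 : N ≤ 1 := by omega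
    have : N * (q - 1) ≤ 1 * (q - 1) := Nat.mul_le_mul_right _ hN1
    have hq2 : q * 2 ≤ q ^ 2 := by rw [sq]; exact Nat.mul_le_mul_left _ hq
    omega
  have hne1 : Nonempty (ℙ F (Fin n → F)) := by
    rw [← Finite.card_pos_iff, ← hN]; omega
  have hne2 : Nonempty (Fin 2 ↪ ℙ F (Fin n → F)) := by
    have := Fintype.ofFinite (ℙ F (Fin n → F))
    apply Function.Embedding.nonempty_of_card_le
    rw [Fintype.card_fin, ← Nat.card_eq_fintype_card, ← hN]
    exact hN2
  obtain ⟨k, ρ, hirr, hchar⟩ := x_irr_of_two_trans (ℙ F (Fin n → F)) h1 h2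
  have hk : (k : ℂ) = (N : ℂ) - 1 := by
    have h3 := congrFun hchar 1
    rw [Representation.char_one, Module.finrank_fin_fun] at h3
    rw [h3, Pi.sub_apply, hN]
    congr 2
    apply Nat.card_congr
    rw [fixedBy_one_eq_univ]
    exact Equiv.Set.univ _
  have hk' : k + 1 = N := by
    have : ((k + 1 : ℕ) : ℂ) = (N : ℂ) := by push_cast; rw [hk]; ring
    exact_mod_cast this
  have hkq : k = (q ^ n - q) / (q - 1) := by
    symm
    apply Nat.div_eq_of_eq_mul_left (by omega)
    rw [hcard, ← hk', add_mul]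
    omega
  rw [← hkq]
  exact ⟨ρ, hirr⟩

end Cfsg.Agent.Lib.Helper33
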