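import Cfsg.Agent.Lib.Helper33.WellPlaced
import Cfsg.Agent.Lib.Helper51.Replacement
import Cfsg.Agent.Lib.Helper9.WeakClosure4

set_option autoImplicit false

namespace Cfsg.Agent.Lib.Helper33

open scoped Pointwise
open Cfsg

variable {G : Type*} [Group G]

/-- `A` is an abelian subgroup of `T` of largest order. -/
def MaxAb (T A : Subgroup G) : Prop :=
  A ≤ T ∧ (∀ a ∈ A, ∀ b ∈ A, a * b = b * a) ∧
    ∀ B : Subgroup G, B ≤ T → (∀ a ∈ B, ∀ b ∈ B, a * b = b * a) → Nat.card B ≤ Nat.card A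

theorem card_subgroupOf_of_le {A T : Subgroup G} (h : A ≤ T) :
    Nat.card ↥(A.subgroupOf T) = Nat.card A :=
  Nat.card_congr (Subgroup.subgroupOfEquivOfLe h).toEquiv

theorem card_map_subtype {T : Subgroup G} (A' : Subgroup ↥T) :
    Nat.card ↥(A'.map T.subtype) = Nat.card A' :=
  Subgroup.card_map_of_injective (Subgroup.subtype_injective T)

theorem maxAb_map_iff {T : Subgroup G} (A' : Subgroup ↥T) :
    A' ∈ maxAbelianSubgroups ↥T ↔ MaxAb T (A'.map T.subtype) := by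
  rw [Cfsg.Agent.Lib.Helper51.mem_maxAbelian_iff]
  constructor
  · rintro ⟨h1, h2⟩
    refine ⟨Subgroup.map_subtype_le _, ?_, ?_⟩
    · rintro _ ⟨a, ha, rfl⟩ _ ⟨b, hb, rfl⟩
      have := (Subgroup.mem_centralizer_iff.1 (h1 hb)) a ha
      exact congrArg Subtype.val this
    · intro B hBT hB
      rw [card_map_subtype, ← card_subgroupOf_of_le hBT]
      apply h2
      intro b hb
      rw [Subgroup.mem_centralizer_iff]
      intro a ha
      exact Subtype.ext (hB a ha b hb)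
  · rintro ⟨-, h2, h3⟩
    refine ⟨?_, ?_⟩
    · intro b hb
      rw [Subgroup.mem_centralizer_iff]
      intro a ha
      exact Subtype.ext (h2 a ⟨a, ha, rfl⟩ b ⟨b, hb, rfl⟩)
    · intro B hB
      rw [← card_map_subtype B, ← card_map_subtype A']
      apply h3 _ (Subgroup.map_subtype_le _)
      rintro _ ⟨a, ha, rfl⟩ _ ⟨b, hb, rfl⟩
      have := (Subgroup.mem_centralizer_iff.1 (hB hb)) a ha
      exact congrArg Subtype.val this

theorem MaxAb.subgroupOf_mem {T A : Subgroup G} (h : MaxAb T A) :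
    A.subgroupOf T ∈ maxAbelianSubgroups ↥T := by
  rw [maxAb_map_iff, Subgroup.map_subgroupOf_eq_of_le h.1]; exact h

theorem MaxAb.le_J {T A : Subgroup G} (h : MaxAb T A) : A ≤ thompsonSubgroupAOf T := by
  rw [← Subgroup.map_subgroupOf_eq_of_le h.1]
  exact Subgroup.map_mono (le_sSup h.subgroupOf_mem)

theorem J_le {T K : Subgroup G} (h : ∀ A, MaxAb T A → A ≤ K) : thompsonSubgroupAOf T ≤ K := by
  unfold thompsonSubgroupAOf thompsonSubgroupA
  rw [Subgroup.map_le_iff_le_comap]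
  apply sSup_le
  intro A' hA'
  rw [← Subgroup.map_le_iff_le_comap]
  exact h _ ((maxAb_map_iff A').1 hA')

theorem J_le_self (T : Subgroup G) : thompsonSubgroupAOf T ≤ T := Subgroup.map_subtype_le _

theorem MaxAb.conj {T A : Subgroup G} (h : MaxAb T A) (g : G) :
    MaxAb (MulAut.conj g • T) (MulAut.conj g • A) := by
  refine ⟨Subgroup.pointwise_smul_le_pointwise_smul_iff.2 h.1, ?_, ?_⟩
  · rintro _ ⟨a, ha, rfl⟩ _ ⟨b, hb, rfl⟩
    show g * a * g⁻¹ * (g * b * g⁻¹) = g * b * g⁻¹ * (g * a * g⁻¹)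
    calc g * a * g⁻¹ * (g * b * g⁻¹) = g * (a * b) * g⁻¹ := by group
      _ = g * (b * a) * g⁻¹ := by rw [h.2.1 a ha b hb]
      _ = _ := by group
  · intro B hB hBab
    rw [card_conj_smul, ← card_conj_smul g⁻¹ B]
    apply h.2.2
    · rw [conj_smul_le_iff, inv_inv]; exact hB
    · rintro _ ⟨a, ha, rfl⟩ _ ⟨b, hb, rfl⟩
      show g⁻¹ * a * g⁻¹⁻¹ * (g⁻¹ * b * g⁻¹⁻¹) = g⁻¹ * b * g⁻¹⁻¹ * (g⁻¹ * a * g⁻¹⁻¹)
      calc g⁻¹ * a * g⁻¹⁻¹ * (g⁻¹ * b * g⁻¹⁻¹) = g⁻¹ * (a * b) * g := by group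
        _ = g⁻¹ * (b * a) * g := by rw [hBab a ha b hb]
        _ = _ := by group

theorem J_conj_le (g : G) (T : Subgroup G) :
    thompsonSubgroupAOf (MulAut.conj g • T) ≤ MulAut.conj g • thompsonSubgroupAOf T := by
  apply J_le
  intro A hA
  have h1 := hA.conj g⁻¹
  rw [conj_smul_smul', inv_mul_cancel, conj_one_smul'] at h1
  have h2 := h1.le_J
  rwa [conj_smul_le_iff, inv_inv] at h2

theorem J_conj (g : G) (T : Subgroup G) :
    thompsonSubgroupAOf (MulAut.conj g • T) = MulAut.conj g • thompsonSubgroupAOf T := by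
  apply le_antisymm (J_conj_le g T)
  have h := J_conj_le g⁻¹ (MulAut.conj g • T)
  rw [conj_smul_smul', inv_mul_cancel, conj_one_smul'] at h
  rwa [conj_smul_le_iff]

theorem exists_maxAb [Finite G] (T : Subgroup G) : ∃ A, MaxAb T A := by
  obtain ⟨A', hA'⟩ := Cfsg.Agent.Lib.Helper51.exists_mem_maxAbelian (P := ↥T)
  exact ⟨_, (maxAb_map_iff A').1 hA'⟩

/-- an abelian subgroup of `T` centralizing a member of `𝒜(T)` lies in it. -/
theorem MaxAb.le_of_centralizes [Finite G] {T A D : Subgroup G} (h : MaxAb T A) (hDT : D ≤ T)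
    (hD : ∀ a ∈ D, ∀ b ∈ D, a * b = b * a) (hDA : ∀ d ∈ D, ∀ a ∈ A, d * a = a * d) : D ≤ A := by
  have hab : ∀ a ∈ A ⊔ D, ∀ b ∈ A ⊔ D, a * b = b * a := by
    have h1 : A ⊔ D ≤ Subgroup.centralizer ((A ⊔ D : Subgroup G) : Set G) := by
      rw [Cfsg.Agent.Lib.Helper51.centralizer_sup_eq]
      refine sup_le (le_inf ?_ ?_) (le_inf ?_ ?_)
      · intro a ha
        rw [Subgroup.mem_centralizer_iff]
        intro b hb
        exact h.2.1 b hb a ha
      · intro a ha
        rw [Subgroup.mem_centralizer_iff]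
        intro d hd
        exact hDA d hd a ha
      · intro d hd
        rw [Subgroup.mem_centralizer_iff]
        intro a ha
        exact (hDA d hd a ha).symm
      · intro d hd
        rw [Subgroup.mem_centralizer_iff]
        intro b hb
        exact hD b hb d hd
    intro a ha b hb
    exact (Subgroup.mem_centralizer_iff.1 (h1 hb)) a ha
  have h2 := h.2.2 (A ⊔ D) (sup_le h.1 hDT) hab
  have h3 : A = A ⊔ D := eq_of_le_of_card_le le_sup_left h2
  rw [h3]; exact le_sup_right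

theorem MaxAb.center_le [Finite G] {T A : Subgroup G} (h : MaxAb T A) :
    T ⊓ Subgroup.centralizer (T : Set G) ≤ A := by
  apply h.le_of_centralizes inf_le_left
  · intro a ha b hb
    exact (Subgroup.mem_centralizer_iff.1 hb.2) a ha.1
  · intro d hd a ha
    exact ((Subgroup.mem_centralizer_iff.1 hd.2) a (h.1 ha)).symm

theorem center_le_J [Finite G] (T : Subgroup G) :
    T ⊓ Subgroup.centralizer (T : Set G) ≤ thompsonSubgroupAOf T := by
  obtain ⟨A, hA⟩ := exists_maxAb T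
  exact hA.center_le.trans hA.le_J

theorem J_ne_bot [Finite G] {T : Subgroup G} (hT : T ≠ ⊥) : thompsonSubgroupAOf T ≠ ⊥ := by
  obtain ⟨A, hA⟩ := exists_maxAb T
  obtain ⟨x, hx, hx1⟩ : ∃ x ∈ T, x ≠ 1 := by
    obtain ⟨x, hx⟩ := Subgroup.ne_bot_iff_exists_ne_one.1 hT
    exact ⟨(x : G), x.2, fun h => hx (Subtype.ext h)⟩
  intro hbot
  have hAbot : A = ⊥ := le_bot_iff.1 (hbot ▸ hA.le_J)
  have h1 := hA.2.2 (Subgroup.zpowers x) (Subgroup.zpowers_le.2 hx) (by
    intro a ha b hb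
    obtain ⟨i, rfl⟩ := Subgroup.mem_zpowers_iff.1 ha
    obtain ⟨j, rfl⟩ := Subgroup.mem_zpowers_iff.1 hb
    rw [← zpow_add, ← zpow_add, add_comm])
  rw [hAbot, Subgroup.card_bot] at h1
  have h2 : Subgroup.zpowers x = ⊥ := Subgroup.card_le_one_iff_eq_bot _ |>.1 h1
  exact hx1 (Subgroup.zpowers_eq_bot.1 h2)

theorem isConjugacyFunctor_J [Finite G] (p : ℕ) :
    IsConjugacyFunctor p (fun T : Subgroup G => thompsonSubgroupAOf T) :=
  fun P _ => ⟨J_le_self P, J_ne_bot, fun g => J_conj g P⟩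

theorem MaxAb.of_le {T R A : Subgroup G} (h : MaxAb T A) (hAR : A ≤ R) (hRT : R ≤ T) :
    MaxAb R A :=
  ⟨hAR, h.2.1, fun B hB hBab => h.2.2 B (hB.trans hRT) hBab⟩

theorem J_eq_of_forall_le [Finite G] {T R : Subgroup G} (hRT : R ≤ T)
    (h : ∀ A, MaxAb T A → A ≤ R) : thompsonSubgroupAOf T = thompsonSubgroupAOf R := by
  apply le_antisymm
  · apply J_le
    intro A hA
    exact (hA.of_le (h A hA) hRT).le_J
  · apply J_le
    intro B hB
    obtain ⟨A, hA⟩ := exists_maxAb T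
    have h1 : Nat.card A ≤ Nat.card B := hB.2.2 A (h A hA) hA.2.1
    have hB' : MaxAb T B :=
      ⟨hB.1.trans hRT, hB.2.1, fun D hD hDab => (hA.2.2 D hD hDab).trans h1⟩
    exact hB'.le_J

variable [Finite G] {p : ℕ} [Fact p.Prime]

/-- if `J(T)` is not normal in `H`, some member of `𝒜(T)` is not contained in `O_p(H)`. -/
theorem exists_maxAb_not_le_pCoreOf {H T : Subgroup G} (hT : RelSyl p T H)
    (hJ : ¬ H ≤ Subgroup.normalizer ((thompsonSubgroupAOf T : Subgroup G) : Set G)) :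
    ∃ A, MaxAb T A ∧ ¬ A ≤ pCoreOf p H := by
  by_contra hcon
  push Not at hcon
  apply hJ
  have hRT : pCoreOf p H ≤ T := Cfsg.Agent.Lib.Helper9.pCoreOf_le_relSyl hT
  rw [J_eq_of_forall_le hRT hcon]
  intro h hh
  rw [mem_normalizer_iff_smul, ← J_conj,
    mem_normalizer_iff_smul.1 (Cfsg.Agent.Lib.Helper47.le_normalizer_pCoreOf H hh)]

end Cfsg.Agent.Lib.Helper33
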